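import Mathlib

/-!
# Dualizing a Mayer–Vietoris sequence through adjunctions (helper2)

Given endofunctors `Lₖ ⊣ Rₖ` (`k = 1, 2, 3`) of an abelian category, a "Mayer–Vietoris"
short exact sequence `0 ⟶ Q ⟶ R₁ Q ⊕ R₂ Q ⟶ R₃ Q ⟶ 0` natural in `Q` whose first maps have
retractions on objects of the form `Rₖ G`, yields a short exact sequence
`0 ⟶ L₃ F ⟶ L₁ F ⊕ L₂ F ⟶ F ⟶ 0` with the conjugate maps.
-/

set_option autoImplicit false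
set_option maxHeartbeats 4000000
set_option synthInstance.maxHeartbeats 400000
set_option linter.style.haveILetI false
set_option linter.unusedSectionVars false
set_option linter.unusedVariables false
set_option linter.unusedSimpArgs false
set_option linter.unnecessarySimpa false

universe v u
open CategoryTheory CategoryTheory.Limits

namespace Groth.Agent.Helper2.MVDual

section adj

variable {𝒞 : Type*} [Category 𝒞] {𝒟 : Type*} [Category 𝒟]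

theorem homEquiv_conj {L₁ L₂ : 𝒞 ⥤ 𝒟} {R₁ R₂ : 𝒟 ⥤ 𝒞} (adj₁ : L₁ ⊣ R₁) (adj₂ : L₂ ⊣ R₂)
    (α : R₁ ⟶ R₂) {F : 𝒞} {Q : 𝒟} (ψ : L₁.obj F ⟶ Q) :
    adj₂.homEquiv F Q (((conjugateEquiv adj₁ adj₂).symm α).app F ≫ ψ) =
      adj₁.homEquiv F Q ψ ≫ α.app Q := by
  rw [Adjunction.homEquiv_unit, Adjunction.homEquiv_unit, Functor.map_comp, ← Category.assoc,
    ← unit_conjugateEquiv_symm]
  simp only [Category.assoc]
  rw [α.naturality]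

theorem homEquiv_comp_counit {A : 𝒞 ⥤ 𝒟} {B : 𝒟 ⥤ 𝒞} {L : 𝒟 ⥤ 𝒞} (a₁ : A ⊣ B) (a₂ : L ⊣ A)
    {F Q : 𝒞} (φ : F ⟶ Q) :
    (a₁.comp a₂).homEquiv F Q (a₂.counit.app F ≫ φ) = φ ≫ a₁.unit.app Q := by
  have h1 : (a₁.comp a₂).homEquiv F Q (a₂.counit.app F ≫ φ) =
      a₁.unit.app F ≫ B.map (a₂.unit.app (A.obj F) ≫ A.map (a₂.counit.app F ≫ φ)) := by
    rw [Adjunction.homEquiv_unit, Adjunction.comp_unit_app, Functor.comp_map, Category.assoc,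
      ← B.map_comp]
  have h2 : a₂.unit.app (A.obj F) ≫ A.map (a₂.counit.app F ≫ φ) = A.map φ := by
    rw [A.map_comp, ← Category.assoc]
    have := a₂.right_triangle_components F
    exact (congrArg (fun k => k ≫ A.map φ) this).trans (Category.id_comp _)
  rw [h1, h2]
  exact (a₁.unit.naturality φ).symm

end adj

variable {𝒜 : Type u} [Category.{v} 𝒜] [Abelian 𝒜]

theorem homEquiv_sub {L R : 𝒜 ⥤ 𝒜} [R.Additive] (adj : L ⊣ R) {F Q : 𝒜} (x y : L.obj F ⟶ Q) :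
    adj.homEquiv F Q (x - y) = adj.homEquiv F Q x - adj.homEquiv F Q y := by
  rw [Adjunction.homEquiv_unit, Adjunction.homEquiv_unit, Adjunction.homEquiv_unit,
    Functor.map_sub, Preadditive.comp_sub]

theorem main {L₁ L₂ L₃ R₁ R₂ R₃ : 𝒜 ⥤ 𝒜} [R₃.Additive] (adj₁ : L₁ ⊣ R₁) (adj₂ : L₂ ⊣ R₂)
    (adj₃ : L₃ ⊣ R₃) (ρ₁ : R₁ ⟶ R₃) (ρ₂ : R₂ ⟶ R₃) (η₁ : 𝟭 𝒜 ⟶ R₁) (η₂ : 𝟭 𝒜 ⟶ R₂)
    (ε₁ : L₁ ⟶ 𝟭 𝒜) (ε₂ : L₂ ⟶ 𝟭 𝒜)
    (hε₁ : ∀ {F Q : 𝒜} (φ : F ⟶ Q), adj₁.homEquiv F Q (ε₁.app F ≫ φ) = φ ≫ η₁.app Q)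
    (hε₂ : ∀ {F Q : 𝒜} (φ : F ⟶ Q), adj₂.homEquiv F Q (ε₂.app F ≫ φ) = φ ≫ η₂.app Q)
    (hP : ∀ Q : 𝒜, IsPullback (η₁.app Q) (η₂.app Q) (ρ₁.app Q) (ρ₂.app Q))
    (hE : ∀ Q : 𝒜, Epi (biprod.desc (ρ₁.app Q) (-(ρ₂.app Q))))
    (hr₁ : ∀ G : 𝒜, ∃ r : R₁.obj (R₁.obj G) ⟶ R₁.obj G, η₁.app (R₁.obj G) ≫ r = 𝟙 _)
    (hr₂ : ∀ G : 𝒜, ∃ r : R₂.obj (R₂.obj G) ⟶ R₂.obj G, η₂.app (R₂.obj G) ≫ r = 𝟙 _)
    (F : 𝒜) :
    ∃ h : biprod.lift (((conjugateEquiv adj₁ adj₃).symm ρ₁).app F)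
        (-(((conjugateEquiv adj₂ adj₃).symm ρ₂).app F)) ≫
          biprod.desc (ε₁.app F) (ε₂.app F) = 0,
      (ShortComplex.mk _ _ h).ShortExact := by
  obtain ⟨σ₁, hσ₁def⟩ : ∃ σ₁ : L₃ ⟶ L₁, σ₁ = (conjugateEquiv adj₁ adj₃).symm ρ₁ := ⟨_, rfl⟩
  obtain ⟨σ₂, hσ₂def⟩ : ∃ σ₂ : L₃ ⟶ L₂, σ₂ = (conjugateEquiv adj₂ adj₃).symm ρ₂ := ⟨_, rfl⟩
  rw [← hσ₁def, ← hσ₂def]
  have hσ₁ : ∀ {Q : 𝒜} (ψ : L₁.obj F ⟶ Q),
      adj₃.homEquiv F Q (σ₁.app F ≫ ψ) = adj₁.homEquiv F Q ψ ≫ ρ₁.app Q := by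
    intro Q ψ
    rw [hσ₁def]
    exact homEquiv_conj adj₁ adj₃ ρ₁ ψ
  have hσ₂ : ∀ {Q : 𝒜} (ψ : L₂.obj F ⟶ Q),
      adj₃.homEquiv F Q (σ₂.app F ≫ ψ) = adj₂.homEquiv F Q ψ ≫ ρ₂.app Q := by
    intro Q ψ
    rw [hσ₂def]
    exact homEquiv_conj adj₂ adj₃ ρ₂ ψ
  have hz0 : σ₁.app F ≫ ε₁.app F = σ₂.app F ≫ ε₂.app F := by
    apply (adj₃.homEquiv F F).injective
    have e1 := hσ₁ (Q := F) (ε₁.app F)
    have e2 := hσ₂ (Q := F) (ε₂.app F)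
    have e3 : adj₁.homEquiv F F (ε₁.app F) = η₁.app F := by
      have := hε₁ (𝟙 F)
      simpa using this
    have e4 : adj₂.homEquiv F F (ε₂.app F) = η₂.app F := by
      have := hε₂ (𝟙 F)
      simpa using this
    rw [e3] at e1
    rw [e4] at e2
    exact e1.trans ((hP F).w.trans e2.symm)
  have hz : biprod.lift (σ₁.app F) (-(σ₂.app F)) ≫ biprod.desc (ε₁.app F) (ε₂.app F) = 0 := by
    rw [biprod.lift_desc, Preadditive.neg_comp, hz0, add_neg_cancel]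
  refine ⟨hz, ?_⟩
  have hdesc : ∀ {Q : 𝒜} (g' : L₁.obj F ⊞ L₂.obj F ⟶ Q),
      biprod.lift (σ₁.app F) (-(σ₂.app F)) ≫ g' = 0 →
      ∃ φ : F ⟶ Q, biprod.desc (ε₁.app F) (ε₂.app F) ≫ φ = g' := by
    intro Q g' hg'
    have hc : adj₁.homEquiv F Q (biprod.inl ≫ g') ≫ ρ₁.app Q =
        adj₂.homEquiv F Q (biprod.inr ≫ g') ≫ ρ₂.app Q := by
      rw [← hσ₁, ← hσ₂]
      congr 1
      rw [biprod.lift_eq, Preadditive.add_comp, Category.assoc, Category.assoc,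
        Preadditive.neg_comp, ← sub_eq_add_neg, sub_eq_zero] at hg'
      exact hg'
    refine ⟨(hP Q).lift _ _ hc, ?_⟩
    have l1 : (hP Q).lift _ _ hc ≫ η₁.app Q = adj₁.homEquiv F Q (biprod.inl ≫ g') :=
      (hP Q).lift_fst _ _ hc
    have l2 : (hP Q).lift _ _ hc ≫ η₂.app Q = adj₂.homEquiv F Q (biprod.inr ≫ g') :=
      (hP Q).lift_snd _ _ hc
    ext
    · refine (adj₁.homEquiv F Q).injective ?_
      have := hε₁ ((hP Q).lift _ _ hc)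
      rw [biprod.inl_desc_assoc]
      exact this.trans l1
    · refine (adj₂.homEquiv F Q).injective ?_
      have := hε₂ ((hP Q).lift _ _ hc)
      rw [biprod.inr_desc_assoc]
      exact this.trans l2
  have huniq : ∀ {Q : 𝒜} (m m' : F ⟶ Q),
      biprod.desc (ε₁.app F) (ε₂.app F) ≫ m = biprod.desc (ε₁.app F) (ε₂.app F) ≫ m' →
      m = m' := by
    intro Q m m' h
    apply (hP Q).hom_ext
    · have key : ε₁.app F ≫ m = ε₁.app F ≫ m' := by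
        have := congrArg (fun k => biprod.inl ≫ k) h
        simpa using this
      exact (hε₁ m).symm.trans ((congrArg (adj₁.homEquiv F Q) key).trans (hε₁ m'))
    · have key : ε₂.app F ≫ m = ε₂.app F ≫ m' := by
        have := congrArg (fun k => biprod.inr ≫ k) h
        simpa using this
      exact (hε₂ m).symm.trans ((congrArg (adj₂.homEquiv F Q) key).trans (hε₂ m'))
  have hEpi : Epi (biprod.desc (ε₁.app F) (ε₂.app F)) := ⟨fun m m' h => huniq m m' h⟩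
  have hExact : (ShortComplex.mk _ _ hz).Exact := by
    apply ShortComplex.exact_of_g_is_cokernel
    exact CokernelCofork.IsColimit.ofπ _ _ (fun g' hg' => (hdesc g' hg').choose)
      (fun g' hg' => (hdesc g' hg').choose_spec)
      (fun g' hg' m hm => huniq _ _ (hm.trans (hdesc g' hg').choose_spec.symm))
  have hfac : ∀ (Q : 𝒜) (r : R₁.obj Q ⊞ R₂.obj Q ⟶ Q),
      biprod.lift (η₁.app Q) (η₂.app Q) ≫ r = 𝟙 Q →
      ∀ ψ : L₃.obj F ⟶ Q, ∃ ψ' : L₁.obj F ⊞ L₂.obj F ⟶ Q,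
        biprod.lift (σ₁.app F) (-(σ₂.app F)) ≫ ψ' = ψ := by
    intro Q r hr ψ
    obtain ⟨sQ, hs⟩ : ∃ sQ : R₃.obj Q ⟶ R₁.obj Q ⊞ R₂.obj Q,
        sQ ≫ biprod.desc (ρ₁.app Q) (-(ρ₂.app Q)) = 𝟙 (R₃.obj Q) :=
      ⟨(ShortComplex.Splitting.ofExactOfRetraction (hP Q).shortComplex'
        (hP Q).exact_shortComplex' r hr (hE Q)).s,
        (ShortComplex.Splitting.ofExactOfRetraction (hP Q).shortComplex'
        (hP Q).exact_shortComplex' r hr (hE Q)).s_g⟩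
    obtain ⟨χ, hχdef⟩ : ∃ χ : F ⟶ R₃.obj Q, χ = adj₃.homEquiv F Q ψ := ⟨_, rfl⟩
    have hχ : (χ ≫ sQ ≫ biprod.fst) ≫ ρ₁.app Q - (χ ≫ sQ ≫ biprod.snd) ≫ ρ₂.app Q = χ := by
      have h1 : χ ≫ sQ = biprod.lift (χ ≫ sQ ≫ biprod.fst) (χ ≫ sQ ≫ biprod.snd) := by
        ext <;> simp
      have h2 : (χ ≫ sQ) ≫ biprod.desc (ρ₁.app Q) (-(ρ₂.app Q)) = χ := by
        rw [Category.assoc, hs, Category.comp_id]
      rw [h1, biprod.lift_desc, Preadditive.comp_neg, ← sub_eq_add_neg] at h2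
      exact h2
    refine ⟨biprod.desc ((adj₁.homEquiv F Q).symm (χ ≫ sQ ≫ biprod.fst))
      ((adj₂.homEquiv F Q).symm (χ ≫ sQ ≫ biprod.snd)), ?_⟩
    rw [biprod.lift_desc, Preadditive.neg_comp, ← sub_eq_add_neg]
    apply (adj₃.homEquiv F Q).injective
    rw [homEquiv_sub, hσ₁, hσ₂, Equiv.apply_symm_apply, Equiv.apply_symm_apply, hχ, hχdef]
  have hMono : Mono (biprod.lift (σ₁.app F) (-(σ₂.app F))) := by
    obtain ⟨r₁, hr₁'⟩ := hr₁ (L₃.obj F)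
    obtain ⟨r₂, hr₂'⟩ := hr₂ (L₃.obj F)
    obtain ⟨ψ₁, hψ₁⟩ := hfac (R₁.obj (L₃.obj F)) (biprod.fst ≫ r₁)
      (by rw [biprod.lift_fst_assoc, hr₁']; rfl) (η₁.app (L₃.obj F))
    obtain ⟨ψ₂, hψ₂⟩ := hfac (R₂.obj (L₃.obj F)) (biprod.snd ≫ r₂)
      (by rw [biprod.lift_snd_assoc, hr₂']; rfl) (η₂.app (L₃.obj F))
    have hm : Mono (biprod.lift (η₁.app (L₃.obj F)) (η₂.app (L₃.obj F))) :=
      (hP (L₃.obj F)).mono_shortComplex'_f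
    have e : biprod.lift (σ₁.app F) (-(σ₂.app F)) ≫ biprod.lift ψ₁ ψ₂ =
        biprod.lift (η₁.app (L₃.obj F)) (η₂.app (L₃.obj F)) := by
      ext
      · simp [hψ₁]
      · simp [hψ₂]
    rw [← e] at hm
    haveI := hm
    exact mono_of_mono _ (biprod.lift ψ₁ ψ₂)
  exact ShortComplex.ShortExact.mk' hExact hMono hEpi

end Groth.Agent.Helper2.MVDual
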